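import Mathlib
import Groth.Prelude.Def_SpSeq

/-!
Filtered injective resolutions of objects with finite filtrations.
-/

set_option autoImplicit false

universe v u

open CategoryTheory CategoryTheory.Limits

namespace Groth.Agent.FilRes2

set_option linter.unusedSectionVars false
attribute [local instance] Abelian.hasFiniteBiproducts

variable {C : Type u} [Category.{v} C] [Abelian C]

/-- A long exact sequence cut in short exact pieces. -/
structure Splice (C : Type u) [Category.{v} C] [Abelian C] where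
  Q : ℕ → C
  E : ℕ → C
  m : ∀ n, Q n ⟶ E n
  p : ∀ n, E n ⟶ Q (n + 1)
  mono : ∀ n, Mono (m n)
  epi : ∀ n, Epi (p n)
  zero : ∀ n, m n ≫ p n = 0
  exact : ∀ n, (ShortComplex.mk (m n) (p n) (zero n)).Exact

attribute [instance] Splice.mono Splice.epi

namespace Splice

variable (S : Splice C)

theorem dd (n : ℕ) : (S.p n ≫ S.m (n + 1)) ≫ S.p (n + 1) ≫ S.m (n + 1 + 1) = 0 := by
  simp [reassoc_of% S.zero (n + 1)]

noncomputable abbrev cx : CochainComplex C ℕ :=
  CochainComplex.of S.E (fun n => S.p n ≫ S.m (n + 1)) S.dd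

theorem cx_d (n : ℕ) : S.cx.d n (n + 1) = S.p n ≫ S.m (n + 1) := by
  simp [cx]

theorem exact' {X : C} (n : ℕ) (w : S.E n ⟶ X) (v : S.Q (n + 1) ⟶ X) (hv : Mono v)
    (hw : S.p n ≫ v = w) :
    (ShortComplex.mk (S.m n) w (by rw [← hw, reassoc_of% S.zero n, zero_comp])).Exact := by
  subst hw
  rw [ShortComplex.exact_iff_exact_up_to_refinements]
  intro T z hz
  have h : z ≫ S.p n = 0 := (cancel_mono v).mp ((Category.assoc _ _ _).trans (hz.trans zero_comp.symm))
  exact (ShortComplex.exact_iff_exact_up_to_refinements _).mp (S.exact n) z h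

noncomputable def aug : (CochainComplex.single₀ C).obj (S.Q 0) ⟶ S.cx :=
  (CochainComplex.fromSingle₀Equiv _ _).symm ⟨S.m 0, by
    rw [cx_d]
    exact (reassoc_of% S.zero 0) (S.m 1) |>.trans zero_comp⟩

theorem exactAt_succ (n : ℕ) : S.cx.ExactAt (n + 1) := by
  rw [HomologicalComplex.exactAt_iff' _ n (n + 1) (n + 1 + 1) (by simp) (by simp),
    ShortComplex.exact_iff_exact_up_to_refinements]
  intro T (z : T ⟶ S.E (n + 1)) (hz : z ≫ S.cx.d (n + 1) (n + 1 + 1) = 0)
  obtain ⟨T₁, e₁, he₁, x, hx⟩ := (ShortComplex.exact_iff_exact_up_to_refinements _).mp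
    (S.exact' (n + 1) (S.cx.d (n + 1) (n + 1 + 1)) (S.m (n + 1 + 1)) (S.mono _) (S.cx_d _).symm) z hz
  obtain ⟨T₂, e₂, he₂, y, hy⟩ := surjective_up_to_refinements_of_epi (S.p n) x
  refine ⟨T₂, e₂ ≫ e₁, inferInstance, y, ?_⟩
  change (e₂ ≫ e₁) ≫ z = y ≫ S.cx.d n (n + 1)
  rw [S.cx_d, Category.assoc, hx]
  exact (reassoc_of% hy) (S.m (n + 1))

theorem quasiIso_aug : QuasiIso S.aug := ⟨fun n => by
  cases n
  · rw [CochainComplex.quasiIsoAt₀_iff, ShortComplex.quasiIso_iff_of_zeros]
    · refine (ShortComplex.exact_and_mono_f_iff_of_iso ?_).2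
        ⟨S.exact' 0 (S.cx.d 0 1) (S.m 1) (S.mono 1) (S.cx_d 0).symm, inferInstanceAs (Mono (S.m 0))⟩
      exact ShortComplex.isoMk (Iso.refl _) (Iso.refl _) (Iso.refl _)
        (by dsimp; erw [Category.id_comp, Category.comp_id]; simp [Splice.aug, CochainComplex.fromSingle₀Equiv] <;> rfl)
        (by dsimp; erw [Category.id_comp, Category.comp_id]; rfl)
    all_goals rfl
  · rw [quasiIsoAt_iff_exactAt]
    · exact S.exactAt_succ _
    · apply CochainComplex.exactAt_succ_single_obj⟩

end Splice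

/-- An object with a finite filtration. -/
structure FQ (C : Type u) [Category.{v} C] [Abelian C] where
  obj : C
  fil : ℤ → Subobject obj
  anti : Antitone fil
  top : ∃ a : ℤ, fil a = ⊤
  bot : ∃ b : ℤ, fil b = ⊥

namespace FQ

variable [EnoughInjectives C] (K : FQ C)

noncomputable def lo : ℤ := K.top.choose
noncomputable def hi : ℤ := max K.bot.choose K.lo

theorem fil_lo : K.fil K.lo = ⊤ := K.top.choose_spec

theorem fil_hi : K.fil K.hi = ⊥ :=
  le_bot_iff.mp ((K.anti (le_max_left _ _)).trans_eq K.bot.choose_spec)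

open scoped Classical in
noncomputable def idx : Finset ℤ :=
  (Finset.Ico K.lo K.hi).filter (fun j => K.fil (j + 1) ≠ K.fil j)

noncomputable def c (j : ℤ) : (K.fil j : C) ⟶
    Injective.under (cokernel (Subobject.ofLE _ _ (K.anti (show j ≤ j + 1 by omega)))) :=
  cokernel.π _ ≫ Injective.ι _

noncomputable abbrev F (j : ↥K.idx) : C :=
  Injective.under (cokernel (Subobject.ofLE _ _ (K.anti (show (j : ℤ) ≤ (j : ℤ) + 1 by omega))))

noncomputable abbrev E : C := ⨁ K.F

noncomputable def g (j : ↥K.idx) : K.obj ⟶ K.F j := Injective.factorThru (K.c j) (K.fil (j : ℤ)).arrow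

theorem arrow_g (j : ↥K.idx) : (K.fil (j : ℤ)).arrow ≫ K.g j = K.c j :=
  Injective.comp_factorThru _ _

noncomputable def ι : K.obj ⟶ K.E := biproduct.lift K.g

theorem ι_π (j : ↥K.idx) : K.ι ≫ biproduct.π K.F j = K.g j := biproduct.lift_π _ _

open scoped Classical in
noncomputable def proj (i : ℤ) : K.E ⟶ K.E :=
  biproduct.map (fun j => if (j : ℤ) < i then 𝟙 (K.F j) else 0)

theorem comp_proj_eq_zero_iff {T : C} (z : T ⟶ K.E) (i : ℤ) :
    z ≫ K.proj i = 0 ↔ ∀ j : ↥K.idx, (j : ℤ) < i → z ≫ biproduct.π K.F j = 0 := by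
  classical
  refine ⟨fun h j hj => ?_, fun h => biproduct.hom_ext _ _ fun j => ?_⟩
  · have h2 : (z ≫ K.proj i) ≫ biproduct.π K.F j = 0 := by rw [h, zero_comp]
    rw [Category.assoc, proj, biproduct.map_π, if_pos hj, Category.comp_id] at h2
    exact h2
  · rw [Category.assoc, proj, biproduct.map_π, zero_comp]
    by_cases hj : (j : ℤ) < i
    · rw [if_pos hj, Category.comp_id, h j hj]
    · rw [if_neg hj, comp_zero, comp_zero]

/-- The filtration of the injective envelope. -/
noncomputable def efil (i : ℤ) : Subobject K.E := kernelSubobject (K.proj i)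

theorem factors_efil {T : C} (z : T ⟶ K.E) (i : ℤ) :
    (K.efil i).Factors z ↔ ∀ j : ↥K.idx, (j : ℤ) < i → z ≫ biproduct.π K.F j = 0 := by
  rw [efil, kernelSubobject_factors_iff, comp_proj_eq_zero_iff]

theorem efil_anti : Antitone K.efil := by
  intro i i' h
  refine Subobject.le_of_factors ((K.factors_efil _ i).mpr fun j hj => ?_)
  exact (K.factors_efil _ i').mp (Subobject.factors_self _) j (lt_of_lt_of_le hj h)

instance (i : ℤ) : Injective (K.efil i : C) := by
  classical
  have hf : (K.efil i).Factors (𝟙 K.E - K.proj i) := by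
    rw [K.factors_efil]
    intro j hj
    rw [Preadditive.sub_comp, proj, biproduct.map_π, if_pos hj, Category.id_comp, Category.comp_id,
      sub_self]
  have hr : (K.efil i).arrow ≫ (K.efil i).factorThru _ hf = 𝟙 _ := by
    rw [← cancel_mono (K.efil i).arrow, Category.assoc, Subobject.factorThru_arrow, Category.id_comp,
      Preadditive.comp_sub, Category.comp_id]
    have h := kernelSubobject_arrow_comp (K.proj i)
    rw [show (K.efil i).arrow ≫ K.proj i = 0 from h, sub_zero]
  refine ⟨fun {X Y} u f _ => ⟨Injective.factorThru (u ≫ (K.efil i).arrow) f ≫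
    (K.efil i).factorThru _ hf, ?_⟩⟩
  rw [← Category.assoc, Injective.comp_factorThru, Category.assoc, hr, Category.comp_id]

theorem fil_step {T : C} (z : T ⟶ K.obj) (m : ℤ) (hm : (K.fil m).Factors z)
    (h : ∀ hm' : m ∈ K.idx, z ≫ K.g ⟨m, hm'⟩ = 0) (hlt : m < K.hi) (hge : K.lo ≤ m) :
    (K.fil (m + 1)).Factors z := by
  classical
  by_cases he : K.fil (m + 1) = K.fil m
  · rwa [he]
  · have hmem : m ∈ K.idx := Finset.mem_filter.mpr ⟨Finset.mem_Ico.mpr ⟨hge, hlt⟩, he⟩
    obtain ⟨y, hy⟩ : ∃ y, y ≫ (K.fil m).arrow = z := ⟨_, Subobject.factorThru_arrow _ _ hm⟩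
    have h1 : y ≫ K.c m = 0 := by
      rw [← K.arrow_g ⟨m, hmem⟩, reassoc_of% hy]
      exact h hmem
    have h2 : y ≫ cokernel.π (Subobject.ofLE _ _ (K.anti (show m ≤ m + 1 by omega))) = 0 := by
      rw [c] at h1
      exact (cancel_mono (Injective.ι _)).mp (by rw [Category.assoc, h1, zero_comp])
    rw [← hy, ← Abelian.monoLift_comp _ y h2, Category.assoc, Subobject.ofLE_arrow]
    exact Subobject.factors_comp_arrow _

theorem factors_fil_iff {T : C} (z : T ⟶ K.obj) (i : ℤ) :
    (K.fil i).Factors z ↔ (K.efil i).Factors (z ≫ K.ι) := by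
  rw [K.factors_efil]
  refine ⟨fun hz j hj => ?_, fun h => ?_⟩
  · obtain ⟨y, hy⟩ : ∃ y, y ≫ (K.fil i).arrow = z := ⟨_, Subobject.factorThru_arrow _ _ hz⟩
    rw [Category.assoc, ι_π, ← hy,
      ← Subobject.ofLE_arrow (K.anti (show (j : ℤ) + 1 ≤ i by omega)),
      ← Subobject.ofLE_arrow (K.anti (show (j : ℤ) ≤ (j : ℤ) + 1 by omega))]
    simp only [Category.assoc]
    rw [arrow_g, c, cokernel.condition_assoc]
    simp
  · have key : ∀ n : ℕ, K.lo + n ≤ i → K.lo + n ≤ K.hi → (K.fil (K.lo + n)).Factors z := by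
      intro n
      induction n with
      | zero =>
        intro _ _
        rw [Nat.cast_zero, add_zero, fil_lo]
        exact Subobject.top_factors _
      | succ n ih =>
        intro hn hn'
        push_cast at hn hn' ⊢
        rw [← add_assoc]
        refine K.fil_step z _ (ih (by omega) (by omega)) (fun hm' => ?_) (by omega) (by omega)
        have h2 := h ⟨_, hm'⟩ (show K.lo + (n : ℤ) < i by omega)
        rwa [Category.assoc, ι_π] at h2
    by_cases h1 : i ≤ K.lo
    · exact Subobject.factors_of_le z (K.anti h1) (by rw [fil_lo]; exact Subobject.top_factors _)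
    by_cases h2 : i ≤ K.hi
    · have h3 := key (i - K.lo).toNat (by omega) (by omega)
      rwa [show K.lo + ((i - K.lo).toNat : ℤ) = i by omega] at h3
    · have h3 := key (K.hi - K.lo).toNat
        (by have := le_max_right K.bot.choose K.lo; simp only [hi] at h2 ⊢; omega)
        (by have := le_max_right K.bot.choose K.lo; simp only [hi]; omega)
      rw [show K.lo + ((K.hi - K.lo).toNat : ℤ) = K.hi by
        have := le_max_right K.bot.choose K.lo; simp only [hi]; omega, fil_hi] at h3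
      exact Subobject.factors_of_le z bot_le h3

theorem efil_eq_top {i : ℤ} (h : K.fil i = ⊤) : K.efil i = ⊤ := by
  classical
  refine eq_top_iff.mpr (Subobject.le_of_factors ((K.factors_efil _ i).mpr fun j hj => ?_))
  exfalso
  have h1 : K.fil ((j : ℤ) + 1) = ⊤ := top_le_iff.mp (h ▸ K.anti (show (j : ℤ) + 1 ≤ i by omega))
  have h2 : K.fil (j : ℤ) = ⊤ := top_le_iff.mp (h ▸ K.anti (le_of_lt hj))
  exact (Finset.mem_filter.mp j.2).2 (h1.trans h2.symm)

theorem arrow_eq_zero_of_eq_bot {X : C} {S : Subobject X} (h : S = ⊥) : S.arrow = 0 := by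
  subst h
  exact Subobject.bot_arrow

theorem efil_eq_bot {i : ℤ} (h : K.fil i = ⊥) : K.efil i = ⊥ := by
  classical
  have h0 : (K.efil i).arrow = 0 := by
    refine biproduct.hom_ext _ _ fun j => ?_
    rw [zero_comp]
    refine (K.factors_efil _ i).mp (Subobject.factors_self _) j ?_
    by_contra hj
    have h1 : K.fil ((j : ℤ) + 1) = ⊥ := le_bot_iff.mp (h ▸ K.anti (show i ≤ (j : ℤ) + 1 by omega))
    have h2 : K.fil (j : ℤ) = ⊥ := le_bot_iff.mp (h ▸ K.anti (not_lt.mp hj))
    exact (Finset.mem_filter.mp j.2).2 (h1.trans h2.symm)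
  refine eq_bot_iff.mpr (Subobject.le_of_factors ?_)
  rw [h0]
  exact Subobject.factors_zero

instance : Mono K.ι := by
  refine Preadditive.mono_of_cancel_zero _ fun z hz => ?_
  have h : (K.fil K.hi).Factors z := (K.factors_fil_iff z K.hi).mpr (by
    rw [hz]; exact Subobject.factors_zero)
  rw [fil_hi, Subobject.bot_factors_iff_zero] at h
  exact h

noncomputable abbrev π : K.E ⟶ cokernel K.ι := cokernel.π K.ι

theorem imageSubobject_eq_bot {X Y : C} (f : X ⟶ Y) (hf : f = 0) : imageSubobject f = ⊥ := by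
  subst hf
  exact imageSubobject_zero

theorem imageSubobject_eq_top {X Y : C} (f : X ⟶ Y) [Epi f] : imageSubobject f = ⊤ := by
  have he : Epi (imageSubobject f).arrow := epi_of_epi_fac (imageSubobject_arrow_comp f)
  have := isIso_of_mono_of_epi (imageSubobject f).arrow
  exact Subobject.eq_top_of_isIso_arrow _

/-- The next filtered syzygy. -/
noncomputable abbrev next : FQ C where
  obj := cokernel K.ι
  fil i := imageSubobject ((K.efil i).arrow ≫ K.π)
  anti := by
    intro i i' h
    dsimp only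
    conv_lhs => rw [← Subobject.ofLE_arrow (K.efil_anti h)]
    simp only [Category.assoc]
    exact imageSubobject_comp_le _ _
  top := ⟨K.lo, by
    have : IsIso (K.efil K.lo).arrow :=
      Subobject.isIso_arrow_iff_eq_top _ |>.mpr (K.efil_eq_top K.fil_lo)
    have : Epi ((K.efil K.lo).arrow ≫ K.π) := epi_comp _ _
    exact imageSubobject_eq_top _⟩
  bot := ⟨K.hi, by
    refine imageSubobject_eq_bot _ ?_
    rw [arrow_eq_zero_of_eq_bot (K.efil_eq_bot K.fil_hi), zero_comp]⟩

noncomputable def lι (i : ℤ) : (K.fil i : C) ⟶ (K.efil i : C) :=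
  (K.efil i).factorThru ((K.fil i).arrow ≫ K.ι)
    ((K.factors_fil_iff _ i).mp (Subobject.factors_self _))

theorem lι_arrow (i : ℤ) : K.lι i ≫ (K.efil i).arrow = (K.fil i).arrow ≫ K.ι :=
  Subobject.factorThru_arrow _ _ _

instance (i : ℤ) : Mono (K.lι i) :=
  mono_of_mono_fac (K.lι_arrow i)

noncomputable def lπ (i : ℤ) : (K.efil i : C) ⟶ (K.next.fil i : C) :=
  factorThruImageSubobject ((K.efil i).arrow ≫ K.π)

theorem lπ_arrow (i : ℤ) : K.lπ i ≫ (K.next.fil i).arrow = (K.efil i).arrow ≫ K.π :=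
  imageSubobject_arrow_comp _

instance (i : ℤ) : Epi (K.lπ i) :=
  inferInstanceAs (Epi (factorThruImageSubobject ((K.efil i).arrow ≫ K.π)))

theorem lι_lπ (i : ℤ) : K.lι i ≫ K.lπ i = 0 := by
  rw [← cancel_mono (K.next.fil i).arrow, Category.assoc, lπ_arrow, ← Category.assoc, lι_arrow,
    Category.assoc, zero_comp]
  exact (congrArg ((K.fil i).arrow ≫ ·) (cokernel.condition K.ι)).trans comp_zero

theorem exact_level (i : ℤ) : (ShortComplex.mk (K.lι i) (K.lπ i) (K.lι_lπ i)).Exact := by
  rw [ShortComplex.exact_iff_exact_up_to_refinements]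
  intro T (z : T ⟶ (K.efil i : C)) (hz : z ≫ K.lπ i = 0)
  have h1 : (z ≫ (K.efil i).arrow) ≫ cokernel.π K.ι = 0 := by
    rw [Category.assoc]
    exact (congrArg (z ≫ ·) (K.lπ_arrow i)).symm.trans
      ((Category.assoc _ _ _).symm.trans ((congrArg (· ≫ (K.next.fil i).arrow) hz).trans zero_comp))
  have hw := Abelian.monoLift_comp K.ι _ h1
  have hf : (K.fil i).Factors (Abelian.monoLift K.ι _ h1) :=
    (K.factors_fil_iff _ i).mpr (by rw [hw]; exact Subobject.factors_comp_arrow _)
  refine ⟨T, 𝟙 T, inferInstance, (K.fil i).factorThru _ hf, ?_⟩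
  change 𝟙 T ≫ z = _ ≫ K.lι i
  rw [← cancel_mono (K.efil i).arrow, Category.assoc, Category.assoc, lι_arrow,
    Subobject.factorThru_arrow_assoc, hw, Category.id_comp]

end FQ

variable [EnoughInjectives C]

noncomputable def seq (K : FQ C) : ℕ → FQ C
  | 0 => K
  | n + 1 => (seq K n).next

noncomputable def total (K : FQ C) : Splice C where
  Q n := (seq K n).obj
  E n := (seq K n).E
  m n := (seq K n).ι
  p n := (seq K n).π
  mono n := inferInstance
  epi n := inferInstanceAs (Epi (cokernel.π (seq K n).ι))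
  zero n := cokernel.condition _
  exact n := ShortComplex.exact_cokernel _

noncomputable def level (K : FQ C) (i : ℤ) : Splice C where
  Q n := ((seq K n).fil i : C)
  E n := ((seq K n).efil i : C)
  m n := (seq K n).lι i
  p n := (seq K n).lπ i
  mono n := inferInstance
  epi n := inferInstanceAs (Epi ((seq K n).lπ i))
  zero n := (seq K n).lι_lπ i
  exact n := (seq K n).exact_level i

noncomputable def incl (K : FQ C) (i : ℤ) : (level K i).cx ⟶ (total K).cx where
  f n := ((seq K n).efil i).arrow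
  comm' a b (hab : a + 1 = b) := by
    subst hab
    rw [Splice.cx_d, Splice.cx_d]
    change _ ≫ (seq K a).π ≫ (seq K (a + 1)).ι = ((seq K a).lπ i ≫ (seq K (a + 1)).lι i) ≫ _
    erw [Category.assoc, (seq K (a + 1)).lι_arrow i, ← Category.assoc, ← Category.assoc,
      ← (seq K a).lπ_arrow i]
    rfl

instance (K : FQ C) (i : ℤ) (n : ℕ) : Mono ((incl K i).f n) :=
  inferInstanceAs (Mono ((seq K n).efil i).arrow)

instance (K : FQ C) (i : ℤ) : Mono (incl K i) := HomologicalComplex.mono_of_mono_f _ inferInstance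

theorem seq_fil_top (K : FQ C) {i : ℤ} (h : K.fil i = ⊤) : ∀ n, (seq K n).fil i = ⊤
  | 0 => h
  | n + 1 => by
    have : IsIso ((seq K n).efil i).arrow :=
      Subobject.isIso_arrow_iff_eq_top _ |>.mpr ((seq K n).efil_eq_top (seq_fil_top K h n))
    have : Epi (((seq K n).efil i).arrow ≫ (seq K n).π) := epi_comp _ _
    exact FQ.imageSubobject_eq_top _

theorem seq_fil_bot (K : FQ C) {i : ℤ} (h : K.fil i = ⊥) : ∀ n, (seq K n).fil i = ⊥
  | 0 => h
  | n + 1 => by
    refine FQ.imageSubobject_eq_bot _ ?_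
    rw [FQ.arrow_eq_zero_of_eq_bot ((seq K n).efil_eq_bot (seq_fil_bot K h n)), zero_comp]

theorem comm_of_mono {A B A' B' X Y : C} (f : A ⟶ B) (f' : A' ⟶ B') (dA : A ⟶ A') (dB : B ⟶ B')
    (u : B ⟶ X) (u' : B' ⟶ Y) (hu : Mono u') (w : A ⟶ X) (w' : A' ⟶ Y) (D : X ⟶ Y)
    (h1 : u ≫ D = dB ≫ u') (h2 : w ≫ D = dA ≫ w') (e : f ≫ u = w) (e' : f' ≫ u' = w') :
    f ≫ dB = dA ≫ f' := by
  rw [← cancel_mono u', Category.assoc, ← h1, reassoc_of% e, h2, Category.assoc, e']

end Groth.Agent.FilRes2
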